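import Mathlib
import Groth.Agent.Lib.Helper4.PropDim1
import Groth.Agent.Lib.Helper4.FTDim1
import Groth.Agent.Lib.Helper7.DimFun.LocConst

set_option linter.style.haveILetI false
set_option linter.unusedVariables false
set_option linter.unusedSectionVars false
set_option autoImplicit false
set_option backward.isDefEq.respectTransparency.types false

universe u

/-! helper7: helper7: nowhere dense locally closed subsets of an equidimensional scheme locally of finite type over a field are those of smaller dimension (S4644 core); closed neighbourhoods of maximal points -/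

namespace Groth.Agent.Helper7.NwDense

open CategoryTheory CategoryTheory.Limits AlgebraicGeometry TopologicalSpace
open Groth.Agent.Lib.Helper4.FibDim1 Groth.Agent.Lib.Helper4.PropDim1 Groth.Agent.Lib.Helper4.FTDim1
open Groth.Agent.Lib.Helper4.JacDim4 Groth.Agent.Lib.Helper4.Chev10
open Groth.Agent.Helper7.DimFun

section Top

variable {Y : Scheme.{u}}

/-- on a locally Noetherian scheme, a closed set containing a maximal point is a neighbourhood of
that point -/
theorem mem_interior_of_maximal [IsLocallyNoetherian Y] (C : Set Y) (hC : IsClosed C) (η : Y)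
    (hη : ∀ y : Y, y ⤳ η → y = η) (hηC : η ∈ C) : η ∈ interior C := by
  -- the indicator of "the maximal generizations lie in C" is not needed; argue directly
  obtain ⟨W, hW, hηW, -⟩ := exists_isAffineOpen_mem_and_subset (x := η) (U := ⊤) trivial
  haveI : IsNoetherianRing Γ(Y, W) := IsLocallyNoetherian.component_noetherian ⟨W, hW⟩
  obtain ⟨W', hW'⟩ : ∃ W' : Set Y, W' = (W : Set Y) := ⟨_, rfl⟩
  have hW'open : IsOpen W' := hW' ▸ W.2
  have hηW' : η ∈ W' := hW' ▸ hηW
  haveI : NoetherianSpace ↥W' := by
    subst hW'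
    exact noetherianSpace_of_isAffineOpen W hW
  haveI : QuasiSober ↥W' := hW'open.isOpenEmbedding_subtypeVal.quasiSober
  have hfin : (irreducibleComponents ↥W').Finite := NoetherianSpace.finite_irreducibleComponents
  obtain ⟨T, hTdef⟩ : ∃ T : Set ↥W',
    T = ⋃₀ {Z ∈ irreducibleComponents ↥W' | (⟨η, hηW'⟩ : ↥W') ∉ Z} := ⟨_, rfl⟩
  have hT : IsClosed T := by
    rw [hTdef, Set.sUnion_eq_biUnion]
    apply Set.Finite.isClosed_biUnion (hfin.subset (fun Z hZ => hZ.1))
    intro Z hZ
    exact isClosed_of_mem_irreducibleComponents Z hZ.1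
  have hopen : IsOpen (Subtype.val '' Tᶜ : Set Y) :=
    hW'open.isOpenMap_subtype_val _ hT.isOpen_compl
  have hηT : η ∈ (Subtype.val '' Tᶜ : Set Y) := by
    refine ⟨⟨η, hηW'⟩, ?_, rfl⟩
    rw [hTdef]
    rintro ⟨Z, ⟨hZ1, hZ2⟩, hZ3⟩
    exact hZ2 hZ3
  have hsub : (Subtype.val '' Tᶜ : Set Y) ⊆ C := by
    rintro _ ⟨y, hy, rfl⟩
    -- the irreducible component of y contains η
    have hmem := irreducibleComponent_mem_irreducibleComponents y
    have hηin : (⟨η, hηW'⟩ : ↥W') ∈ irreducibleComponent y := by
      by_contra hcon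
      apply hy
      rw [hTdef]
      exact ⟨irreducibleComponent y, ⟨hmem, hcon⟩, mem_irreducibleComponent⟩
    have hirr : IsIrreducible (irreducibleComponent y) := isIrreducible_irreducibleComponent
    have hcl : IsClosed (irreducibleComponent y) := isClosed_irreducibleComponent
    have hgen := hirr.isGenericPoint_genericPoint hcl
    have h1 : hirr.genericPoint ⤳ (⟨η, hηW'⟩ : ↥W') := hgen.specializes hηin
    have h2 : (hirr.genericPoint : ↥W').1 ⤳ η := h1.map continuous_subtype_val
    have h3 := hη _ h2
    have h4 : hirr.genericPoint ⤳ y := hgen.specializes mem_irreducibleComponent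
    have h5 : (hirr.genericPoint : ↥W').1 ⤳ y.1 := h4.map continuous_subtype_val
    rw [h3] at h5
    exact h5.mem_closed hC hηC
  exact mem_interior.mpr ⟨_, hsub, hopen, hηT⟩

/-- the closure of a maximal point is an irreducible component -/
theorem closure_mem_irreducibleComponents (η : Y) (hη : ∀ y : Y, y ⤳ η → y = η) :
    closure ({η} : Set Y) ∈ irreducibleComponents ↥Y := by
  refine ⟨isIrreducible_singleton.closure, ?_⟩
  intro S hS hle
  have hirr : IsIrreducible (closure S) := hS.closure
  have hgen := hirr.isGenericPoint_genericPoint isClosed_closure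
  have h1 : hirr.genericPoint ⤳ η := hgen.specializes (subset_closure (hle (subset_closure rfl)))
  have h2 := hη _ h1
  intro s hs
  have h3 : hirr.genericPoint ⤳ s := hgen.specializes (subset_closure hs)
  rw [h2] at h3
  exact specializes_iff_mem_closure.mp h3

end Top

section Main

variable {k : Type u} [Field k] {Y : Scheme.{u}} (g : Y ⟶ Spec (CommRingCat.of k))
  [LocallyOfFiniteType g]

theorem dim_eq_tr_of_maximal
    (heq : ∀ T ∈ irreducibleComponents ↥Y, topologicalKrullDim ↥T = topologicalKrullDim ↥Y)
    (η : Y) (hη : ∀ y : Y, y ⤳ η → y = η) :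
    topologicalKrullDim ↥Y = ((tr g η : ℕ) : WithBot ℕ∞) := by
  rw [← heq _ (closure_mem_irreducibleComponents η hη)]
  exact dim_closure_of_field k g η

theorem tr_open (V : Y.Opens) (v : V) : tr (V.ι ≫ g) v = tr g v.1 := by
  rw [tr_comp V.ι g v, tr_of_surjectiveOnStalks V.ι v, add_zero]
  rfl

include g in
/-- S4644 core -/
theorem isNowhereDense_iff [Nonempty ↥Y]
    (heq : ∀ T ∈ irreducibleComponents ↥Y, topologicalKrullDim ↥T = topologicalKrullDim ↥Y)
    (Z : Set ↥Y) (hZ : IsLocallyClosed Z) :
    IsNowhereDense Z ↔ topologicalKrullDim ↥Z < topologicalKrullDim ↥Y := by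
  haveI : IsLocallyNoetherian Y := LocallyOfFiniteType.isLocallyNoetherian g
  obtain ⟨y₀⟩ := (inferInstance : Nonempty ↥Y)
  obtain ⟨η₀, hη₀, -⟩ := exists_maximal_specializes y₀
  have hdim := dim_eq_tr_of_maximal g heq η₀ hη₀
  have htr : ∀ η : Y, (∀ y : Y, y ⤳ η → y = η) → tr g η = tr g η₀ := by
    intro η hη
    have h1 := dim_eq_tr_of_maximal g heq η hη
    rw [hdim] at h1
    exact_mod_cast h1.symm
  constructor
  · intro hnd
    have hC : IsClosed (closure Z) := isClosed_closure
    have hint : interior (closure Z) = ∅ := hnd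
    have hlt : ∀ t ∈ closure Z, tr g t < tr g η₀ := by
      intro t ht
      obtain ⟨η, hη, hηt⟩ := exists_maximal_specializes t
      have hne : η ≠ t := by
        rintro rfl
        have := mem_interior_of_maximal (closure Z) hC η hη ht
        rw [hint] at this
        exact this
      rw [← htr η hη]
      exact tr_lt_of_specializes_of_field k g η t hηt hne
    have hle : topologicalKrullDim ↥Z ≤ topologicalKrullDim ↥(closure Z) :=
      (Topology.IsEmbedding.inclusion (subset_closure : Z ⊆ closure Z)).isInducing.topologicalKrullDim_le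
    refine lt_of_le_of_lt hle ?_
    rw [hdim]
    haveI : QuasiSober ↥(closure Z) := hC.isClosedEmbedding_subtypeVal.quasiSober
    rcases Nat.eq_zero_or_pos (tr g η₀) with h0 | hpos
    · have hempty : IsEmpty ↥(closure Z) := by
        constructor
        rintro ⟨t, ht⟩
        have := hlt t ht
        omega
      have : topologicalKrullDim ↥(closure Z) = ⊥ := by
        unfold topologicalKrullDim
        rw [Order.krullDim_eq_bot_iff]
        constructor
        intro S
        obtain ⟨s, hs⟩ := S.2.1
        exact hempty.false s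
      rw [this]
      exact WithBot.bot_lt_coe _
    · have h1 : topologicalKrullDim ↥(closure Z) ≤ ((tr g η₀ - 1 : ℕ) : WithBot ℕ∞) := by
        apply tdim_le_of_forall
        intro t ht
        refine ⟨t, specializes_rfl, ?_⟩
        rw [dim_closure_of_field k g t]
        have := hlt t ht
        have h2 : tr g t ≤ tr g η₀ - 1 := by omega
        exact_mod_cast h2
      refine lt_of_le_of_lt h1 ?_
      have h2 : tr g η₀ - 1 < tr g η₀ := by omega
      exact_mod_cast h2
  · intro hlt
    by_contra hnd
    have hne : (interior (closure Z)).Nonempty := by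
      rw [Set.nonempty_iff_ne_empty]
      exact hnd
    obtain ⟨w, hw⟩ := hne
    -- a point of Z in the interior of the closure
    have hwcl : w ∈ closure Z := interior_subset hw
    obtain ⟨v, hv1, hv2⟩ := mem_closure_iff.mp hwcl _ isOpen_interior hw
    have htfae : IsLocallyClosed Z ↔ ∀ x ∈ Z, ∃ U, x ∈ U ∧ IsOpen U ∧ U ∩ closure Z ⊆ Z :=
      (isLocallyClosed_tfae Z).out 0 3
    obtain ⟨U, hvU, hU, hUsub⟩ := htfae.mp hZ v hv2
    let V : Y.Opens := ⟨U ∩ interior (closure Z), hU.inter isOpen_interior⟩
    have hVZ : (V : Set Y) ⊆ Z := fun z hz => hUsub ⟨hz.1, interior_subset hz.2⟩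
    have hvV : v ∈ V := ⟨hvU, hv1⟩
    obtain ⟨η, hη, hηv⟩ := exists_maximal_specializes v
    have hηV : η ∈ V := hηv.mem_open V.2 hvV
    have h1 : topologicalKrullDim ↥(closure ({(⟨η, hηV⟩ : V)} : Set V)) =
        ((tr (V.ι ≫ g) (⟨η, hηV⟩ : V) : ℕ) : WithBot ℕ∞) :=
      dim_closure_of_field k (V.ι ≫ g) (⟨η, hηV⟩ : V)
    rw [tr_open g V ⟨η, hηV⟩, htr η hη, ← hdim] at h1
    have h2 : topologicalKrullDim ↥(closure ({(⟨η, hηV⟩ : V)} : Set V)) ≤ topologicalKrullDim ↥V :=
      topologicalKrullDim_subspace_le _ _
    have h3 : topologicalKrullDim ↥(V : Set Y) ≤ topologicalKrullDim ↥Z :=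
      (Topology.IsEmbedding.inclusion hVZ).isInducing.topologicalKrullDim_le
    rw [h1] at h2
    exact absurd (lt_of_le_of_lt (h2.trans h3) hlt) (lt_irrefl _)

end Main

end Groth.Agent.Helper7.NwDense
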